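import Groth.Prelude.Def_RefPow
import Groth.Agent.RefHullLib.ClassLaw
import Groth.Agent.RefHullLib.SectionZero
import Groth.Agent.RefHullLib.Hartogs
import Groth.Agent.RefHullLib.Extend
import Mathlib

/-!
# Reflexive powers of a rank one reflexive module and multiplication by a section
-/

set_option autoImplicit false
set_option backward.isDefEq.respectTransparency.types false
universe u

open CategoryTheory AlgebraicGeometry IsLocalRing TopologicalSpace Opposite
open Groth.Agent.Coherent Groth.Agent.PicLib Groth.Agent.AmpleLib Groth.Agent.RefHullLib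

namespace Groth.Agent.RefPowLib

variable {X : Scheme.{u}} [IsIntegral X] [IsLocallyNoetherian X] {F : X.Modules}
  (s : Coh.structureModule X ⟶ F)

theorem isRef1_refPow (hF : RefHull.IsRef1 F) : ∀ n, RefHull.IsRef1 (RefPow.refPow F n)
  | 0 => isRef1_structureModule
  | 1 => hF
  | n + 2 => by
    have hG := isRef1_refPow hF (n + 1)
    have hT := isCoh_tensorMod hG.1 hF.1
    obtain ⟨T⟩ := exists_tensorFrame hG.2.2 hF.2.2
    exact ⟨isCoh_ddual hT, isReflexive_ddual hT, genInvertible_of_bijective_genericPoint (isCoh_ddual hT) _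
      (bijective_smul_map (bijective_stalk_bidualMap_genericPoint hT) T.bij_z)⟩

theorem isReflexiveAt_refPow (hF : RefHull.IsRef1 F) (n : ℕ) (x : X) :
    RefHull.IsReflexiveAt (RefPow.refPow F n) x :=
  (isReflexive_iff_stalks (isRef1_refPow hF n).1).1 (isRef1_refPow hF n).2.1 x

theorem isTorsionFree_refPow (hF : RefHull.IsRef1 F) (n : ℕ) (x : X) :
    Module.IsTorsionFree (X.presheaf.stalk x) ((RefPow.refPow F n).presheaf.stalk x) := by
  haveI := AssSch12.finite_stalk (isRef1_refPow hF n).1 x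
  haveI : Module.IsReflexive (X.presheaf.stalk x) ((RefPow.refPow F n).presheaf.stalk x) :=
    isReflexiveAt_refPow hF n x
  infer_instance

omit [IsIntegral X] [IsLocallyNoetherian X] in
theorem sPowGerm_zero (y : X) : RefPow.sPowGerm s 0 y = AssSch12.unitOne y := rfl

omit [IsIntegral X] [IsLocallyNoetherian X] in
theorem sPowGerm_succ (n : ℕ) (y : X) :
    RefPow.sPowGerm s (n + 1) y = RefHull.stalkMapₗ (RefPow.mulBy s n) y (RefPow.sPowGerm s n y) := by
  rw [RefPow.sPowGerm, RefPow.sPowGerm, RefHull.stalkMapₗ_germ]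
  rfl

omit [IsIntegral X] [IsLocallyNoetherian X] in
theorem sPowGerm_eq_stalkMap (n : ℕ) (y : X) :
    RefPow.sPowGerm s n y = RefHull.stalkMapₗ (RefPow.sPow s n) y (AssSch12.unitOne y) := by
  rw [AssSch12.unitOne, RefHull.stalkMapₗ_germ]
  rfl

omit [IsIntegral X] [IsLocallyNoetherian X] in
theorem bijective_stalk_sPow_iff (n : ℕ) (y : X) :
    Function.Bijective (RefHull.stalkMapₗ (RefPow.sPow s n) y) ↔
      Function.Bijective fun a : X.presheaf.stalk y => a • RefPow.sPowGerm s n y := by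
  rw [← Function.Bijective.of_comp_iff _ (AssSch12.bijective_smul_unitOne y), sPowGerm_eq_stalkMap]
  exact Iff.of_eq (congrArg Function.Bijective (funext fun a => map_smul _ _ _))

omit [IsIntegral X] [IsLocallyNoetherian X] in
theorem mem_isoLocus_iff (y : X) :
    y ∈ RefPow.isoLocus s ↔ Function.Bijective fun a : X.presheaf.stalk y => a • RefPow.sPowGerm s 1 y := by
  rw [RefPow.mem_isoLocus, ← bijective_stalk_sPow_iff, RefPow.sPow_one]
  exact Iff.rfl

omit [IsIntegral X] [IsLocallyNoetherian X] in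
theorem sPowGerm_one (y : X) :
    RefPow.sPowGerm s 1 y = F.presheaf.germ ⊤ y trivial (SecTwist.val s ⊤) := by
  rw [RefPow.sPowGerm, RefPow.sPow_one]
  rfl

omit [IsIntegral X] [IsLocallyNoetherian X] in
theorem germ_val (W : X.Opens) (y : X) (hy : y ∈ W) :
    F.presheaf.germ W y hy (SecTwist.val s W) = RefPow.sPowGerm s 1 y := by
  rw [sPowGerm_one, ← SecTwist.map_val s (homOfLE (le_top : W ≤ ⊤))]
  exact TopCat.Presheaf.germ_res_apply F.presheaf _ _ hy _

omit [IsIntegral X] [IsLocallyNoetherian X] in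
/-- The stalk of multiplication by `s` on germs. -/
theorem stalkMap_mulBy_germ (n : ℕ) (W : X.Opens) (y : X) (hy : y ∈ W)
    (t : Γ(RefPow.refPow F (n + 1), W)) :
    RefHull.stalkMapₗ (RefPow.mulBy s (n + 1)) y ((RefPow.refPow F (n + 1)).presheaf.germ W y hy t) =
      RefHull.stalkMapₗ (RefPow.toRefTensor (RefPow.refPow F (n + 1)) F) y
        ((CohB1.tensorMod (RefPow.refPow F (n + 1)) F).presheaf.germ W y hy
          (AmpleLib.tmul t (SecTwist.val s W))) := by
  rw [RefHull.stalkMapₗ_germ, RefHull.stalkMapₗ_germ, RefPow.mulBy_succ_app]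
  rfl

/-- On the locus where `s` generates, `s ^ n` generates `F^[n]`. -/
theorem bijective_smul_sPowGerm (hF : RefHull.IsRef1 F) {y : X} (hy : y ∈ RefPow.isoLocus s) :
    ∀ n, Function.Bijective fun a : X.presheaf.stalk y => a • RefPow.sPowGerm s n y
  | 0 => AssSch12.bijective_smul_unitOne y
  | 1 => (mem_isoLocus_iff s y).1 hy
  | n + 2 => by
    have hG := isRef1_refPow hF (n + 1)
    obtain ⟨W, hW, a, ha, hae⟩ := exists_isGen_near hG.1 _ (bijective_smul_sPowGerm hF hy (n + 1))
    obtain ⟨W', hW', b, hb, hbe⟩ := exists_isGen_near hF.1 _ ((mem_isoLocus_iff s y).1 hy)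
    have hy2 : y ∈ W ⊓ W' := ⟨hW, hW'⟩
    have hz := SDiv28.bijective_smul_germ_gen
      (isGen_tmul (ha.restrict (inf_le_left : W ⊓ W' ≤ W)) (hb.restrict (inf_le_right : W ⊓ W' ≤ W'))) hy2
    have hT := isCoh_tensorMod hG.1 hF.1
    have hz' := bijective_smul_map
      ((bijective_stalk_bidualMap_iff hT y).2 (isReflexiveAt_of_gen hz)) hz
    have e1 : (RefPow.refPow F (n + 1)).presheaf.germ (W ⊓ W') y hy2 (resM _ inf_le_left a) =
        RefPow.sPowGerm s (n + 1) y :=
      (TopCat.Presheaf.germ_res_apply _ _ _ hy2 _).trans hae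
    have e2 : (CohB1.tensorMod (RefPow.refPow F (n + 1)) F).presheaf.germ (W ⊓ W') y hy2
        (AmpleLib.tmul (resM _ inf_le_left a) (SecTwist.val s (W ⊓ W'))) =
      (CohB1.tensorMod (RefPow.refPow F (n + 1)) F).presheaf.germ (W ⊓ W') y hy2
        (AmpleLib.tmul (resM _ inf_le_left a) (resM F inf_le_right b)) := by
      have e := germ_tmul_eq hy2 hy2 (resM (RefPow.refPow F (n + 1)) inf_le_left a) (SecTwist.val s (W ⊓ W'))
        (resM _ inf_le_left a) (resM F inf_le_right b) 1 1 (one_smul _ _).symm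
        (by rw [one_smul, germ_val]; exact ((TopCat.Presheaf.germ_res_apply _ _ _ hy2 _).trans hbe).symm)
      rwa [one_mul, one_smul] at e
    have key : RefPow.sPowGerm s (n + 2) y =
        RefHull.stalkMapₗ (RefPow.toRefTensor (RefPow.refPow F (n + 1)) F) y
          ((CohB1.tensorMod (RefPow.refPow F (n + 1)) F).presheaf.germ (W ⊓ W') y hy2
            (AmpleLib.tmul (resM _ inf_le_left a) (resM F inf_le_right b))) := by
      rw [sPowGerm_succ, ← e1, stalkMap_mulBy_germ, e2]
    rw [key]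
    exact hz'

omit [IsIntegral X] [IsLocallyNoetherian X] in
/-- Multiplication by `s` lands in `m` times the stalk where the germ of `s` lies in `m` times the stalk. -/
theorem range_mulBy_le {y : X}
    (hs : ∃ c ∈ maximalIdeal (X.presheaf.stalk y), ∃ v, RefPow.sPowGerm s 1 y = c • v) :
    ∀ (n : ℕ) (w : (RefPow.refPow F n).presheaf.stalk y),
      RefHull.stalkMapₗ (RefPow.mulBy s n) y w ∈ maximalIdeal (X.presheaf.stalk y) •
        (⊤ : Submodule (X.presheaf.stalk y) ((RefPow.refPow F (n + 1)).presheaf.stalk y)) := by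
  obtain ⟨c, hc, v, hv⟩ := hs
  rintro (_ | n) w
  · obtain ⟨a, rfl⟩ := (AssSch12.bijective_smul_unitOne y).2 w
    have e : RefHull.stalkMapₗ (RefPow.mulBy s 0) y (a • RefPow.sPowGerm s 0 y) = (a * c) • v := by
      rw [map_smul, ← sPowGerm_succ, hv, smul_smul]
    exact Eq.mpr (congrArg (· ∈ maximalIdeal (X.presheaf.stalk y) •
      (⊤ : Submodule (X.presheaf.stalk y) ((RefPow.refPow F 1).presheaf.stalk y))) e)
        (Submodule.smul_mem_smul (Ideal.mul_mem_left _ a hc) Submodule.mem_top)
  · obtain ⟨W₁, h₁, t, rfl⟩ := (RefPow.refPow F (n + 1)).presheaf.exists_germ_eq w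
    obtain ⟨W₂, h₂, u, rfl⟩ := F.presheaf.exists_germ_eq v
    have hy : y ∈ W₁ ⊓ W₂ := ⟨h₁, h₂⟩
    rw [← TopCat.Presheaf.germ_res_apply _ (homOfLE (inf_le_left : W₁ ⊓ W₂ ≤ W₁)) y hy t, stalkMap_mulBy_germ,
      germ_tmul_eq hy hy _ _ ((RefPow.refPow F (n + 1)).presheaf.map (homOfLE inf_le_left).op t)
        (resM F inf_le_right u) 1 c (one_smul _ _).symm (by
          rw [germ_val, hv]
          exact congrArg (c • ·) (TopCat.Presheaf.germ_res_apply F.presheaf _ _ hy u).symm), one_mul, map_smul]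
    exact Submodule.smul_mem_smul hc Submodule.mem_top

omit [IsIntegral X] [IsLocallyNoetherian X] in
/-- Hence `s ^ n` lies in `m ^ n` times the stalk. -/
theorem sPowGerm_mem_pow {y : X}
    (hs : ∃ c ∈ maximalIdeal (X.presheaf.stalk y), ∃ v, RefPow.sPowGerm s 1 y = c • v) :
    ∀ n, RefPow.sPowGerm s n y ∈ maximalIdeal (X.presheaf.stalk y) ^ n •
      (⊤ : Submodule (X.presheaf.stalk y) ((RefPow.refPow F n).presheaf.stalk y))
  | 0 => by rw [pow_zero, Ideal.one_eq_top, Submodule.top_smul]; trivial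
  | n + 1 => by
    have hle : (⊤ : Submodule (X.presheaf.stalk y) ((RefPow.refPow F n).presheaf.stalk y)).map
        (RefHull.stalkMapₗ (RefPow.mulBy s n) y) ≤ maximalIdeal (X.presheaf.stalk y) • ⊤ := by
      rintro _ ⟨w, -, rfl⟩
      exact range_mulBy_le s hs n w
    rw [sPowGerm_succ, pow_succ, Submodule.mul_smul]
    refine Submodule.smul_mono le_rfl hle ?_
    rw [← Submodule.map_smul'']
    exact Submodule.mem_map_of_mem (sPowGerm_mem_pow hs n)

/-- Outside the iso locus in codimension at most one, the germ of `s` is divisible by a nonunit. -/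
theorem exists_eq_smul_of_notMem (hX : Pi1.IsNormalScheme X) (hF : RefHull.IsRef1 F) {y : X}
    (hy : y ∉ RefPow.isoLocus s) (hd : ringKrullDim (X.presheaf.stalk y) ≤ 1) :
    ∃ c ∈ maximalIdeal (X.presheaf.stalk y), ∃ v, RefPow.sPowGerm s 1 y = c • v := by
  obtain ⟨v, hv⟩ := exists_gen_codimOne hX hF hd
  obtain ⟨c, hc⟩ := hv.2 (RefPow.sPowGerm s 1 y)
  refine ⟨c, (mem_maximalIdeal _).2 fun hu => hy ((mem_isoLocus_iff s y).2 ?_), v, hc.symm⟩
  rw [← hc]
  have e : (fun a : X.presheaf.stalk y => a • c • v) =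
      (fun a : X.presheaf.stalk y => a • v) ∘ Units.mulRight hu.unit := funext fun a => (mul_smul a c v).symm
  exact e.symm ▸ hv.comp (Units.mulRight hu.unit).bijective

theorem ringKrullDim_stalk_genericPoint : ringKrullDim (X.presheaf.stalk (genericPoint X)) = 0 :=
  ringKrullDim_eq_zero_of_isField isField_stalk_genericPoint

/-- If the iso locus misses the generic point then multiplication by `s` is zero. -/
theorem mulBy_eq_zero (hX : Pi1.IsNormalScheme X) (hF : RefHull.IsRef1 F)
    (hη : genericPoint X ∉ RefPow.isoLocus s) (n : ℕ) : RefPow.mulBy s n = 0 := by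
  refine hom_ext_genericPoint (isRef1_refPow hF (n + 1)).1 (isReflexiveAt_refPow hF (n + 1)) ?_
  refine LinearMap.ext fun w => ?_
  have h := range_mulBy_le s (exists_eq_smul_of_notMem s hX hF hη
    (ringKrullDim_stalk_genericPoint.le.trans zero_le_one)) n w
  rw [IsLocalRing.isField_iff_maximalIdeal_eq.1 isField_stalk_genericPoint, Submodule.bot_smul,
    Submodule.mem_bot] at h
  rw [h]
  obtain ⟨W, hW, t, rfl⟩ := (RefPow.refPow F n).presheaf.exists_germ_eq w
  rw [RefHull.stalkMapₗ_germ]
  exact (map_zero _).symm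

end Groth.Agent.RefPowLib
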