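import Groth.Agent.RefPowLib.Colimit
import Mathlib

/-!
# When the inclusion of the iso locus is affine
-/

set_option autoImplicit false
set_option backward.isDefEq.respectTransparency.types false
universe u

open CategoryTheory AlgebraicGeometry IsLocalRing TopologicalSpace Opposite
open Groth.Agent.RefHullLib Groth.Agent.AssSch12

namespace Groth.Agent.RefPowLib

variable {X : Scheme.{u}} (U V : X.Opens)

theorem image_preimage_le : U.ι ''ᵁ U.ι ⁻¹ᵁ V ≤ V := by
  rintro _ ⟨z, hz, rfl⟩; exact hz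

theorem image_preimage_le' : U.ι ''ᵁ U.ι ⁻¹ᵁ V ≤ U := by
  rintro _ ⟨z, -, rfl⟩; exact z.2

/-- A section of `j_* O_U` as a function on `U ∩ V`. -/
def secs (f : Γ(target U, V)) : Γ(X, U.ι ''ᵁ U.ι ⁻¹ᵁ V) := f

/-- Restriction `O(V) → O(U ∩ V)`. -/
noncomputable def rest : Γ(X, V) →+* Γ(X, U.ι ''ᵁ U.ι ⁻¹ᵁ V) :=
  (X.presheaf.map (homOfLE (image_preimage_le U V)).op).hom

theorem secs_smul (r : Γ(X, V)) (f : Γ(target U, V)) : secs U V (r • f) = rest U V r * secs U V f := by
  show (U.ι.appIso (U.ι ⁻¹ᵁ V)).inv (U.ι.app V r) * secs U V f = _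
  simp
  rfl

theorem secs_unit (r : Γ(X, V)) : secs U V ((unitU U).app V r) = rest U V r := rfl

theorem secs_surjective (g : Γ(X, U.ι ''ᵁ U.ι ⁻¹ᵁ V)) : ∃ f : Γ(target U, V), secs U V f = g := ⟨g, rfl⟩

variable [IsIntegral X] [IsLocallyNoetherian X] {F : X.Modules} (s : Coh.structureModule X ⟶ F)
  (hF : RefHull.IsRef1 F) (hU : (U : Set X) = RefPow.isoLocus s)

/-- `F^[n](V) → O(U ∩ V)`. -/
noncomputable def legSec (n : ℕ) (t : Γ(RefPow.refPow F n, V)) : Γ(X, U.ι ''ᵁ U.ι ⁻¹ᵁ V) :=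
  secs U V ((leg s hF U hU n).app V t)

theorem legSec_smul (n : ℕ) (r : Γ(X, V)) (t : Γ(RefPow.refPow F n, V)) :
    legSec U V s hF hU n (r • t) = rest U V r * legSec U V s hF hU n t := by
  rw [legSec, legSec, Scheme.Modules.Hom.app_smul, secs_smul]

theorem legSec_add (n : ℕ) (t t' : Γ(RefPow.refPow F n, V)) :
    legSec U V s hF hU n (t + t') = legSec U V s hF hU n t + legSec U V s hF hU n t' := by
  rw [legSec, map_add]
  rfl

theorem legSec_sPow (n : ℕ) : legSec U V s hF hU n (SecTwist.val (RefPow.sPow s n) V) = 1 := by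
  rw [← map_one (rest U V), ← secs_unit]
  show secs U V _ = secs U V _
  rw [← sPow_leg s hF U hU n]
  rfl

include hF hU in
theorem legSec_mem (I : Ideal Γ(X, V)) (n : ℕ) (t : Γ(RefPow.refPow F n, V))
    (ht : t ∈ I • (⊤ : Submodule Γ(X, V) Γ(RefPow.refPow F n, V))) :
    legSec U V s hF hU n t ∈ I.map (rest U V) := by
  refine Submodule.smul_induction_on ht (fun r hr m _ => ?_) fun a b ha hb => ?_
  · rw [legSec_smul]
    exact Ideal.mul_mem_right _ _ (Ideal.mem_map_of_mem _ hr)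
  · rw [legSec_add]
    exact add_mem ha hb

theorem affine_of_condition (hV : IsAffineOpen V)
    (h : ∀ x : X, x ∉ U → ∃ n : ℕ, 0 < n ∧
      RefPow.sPowGerm s n x ∈ maximalIdeal (X.presheaf.stalk x) •
        (⊤ : Submodule (X.presheaf.stalk x) ((RefPow.refPow F n).presheaf.stalk x)))
    (hF : RefHull.IsRef1 F) (hU : (U : Set X) = RefPow.isoLocus s) :
    IsAffineOpen (U.ι ''ᵁ U.ι ⁻¹ᵁ V) := by
  let S : Set Γ(X, V) := {g | X.basicOpen g ≤ U}
  refine isAffineOpen_of_isAffineOpen_basicOpen _ (rest U V '' S) ?_ ?_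
  · by_contra hne
    obtain ⟨q, hq, hqle⟩ := Ideal.exists_le_maximal _ hne
    haveI := hq.isPrime
    obtain ⟨x, hxV, hxq⟩ := exists_point hV (q.comap (rest U V))
    have hxU : x ∉ U := fun hxU => by
      obtain ⟨g, hgU, hxg⟩ := hV.exists_basicOpen_le (⟨x, hxU⟩ : U) hxV
      exact (mem_primeAt_iff hV hxV g).1
        (hxq.ge (hqle (Ideal.subset_span ⟨g, hgU, rfl⟩))) hxg
    obtain ⟨n, -, hn⟩ := h x hxU
    let M := RefPow.refPow F n
    haveI : M.IsQuasicoherent := (isRef1_refPow hF n).1.1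
    let p := primeAt hV hxV
    have claim : ∀ v ∈ maximalIdeal (X.presheaf.stalk x) •
        (⊤ : Submodule (X.presheaf.stalk x) (M.presheaf.stalk x)),
        ∃ g : Γ(X, V), g ∉ p ∧ ∃ z ∈ p • (⊤ : Submodule Γ(X, V) Γ(M, V)),
          X.presheaf.germ V x hxV g • v = M.presheaf.germ V x hxV z := by
      intro v hv
      refine Submodule.smul_induction_on hv (fun r hr w _ => ?_) fun a b ha hb => ?_
      · obtain ⟨g₁, m, hg₁, hm⟩ := QCohLoc.exists_smul_stalk_eq_germ (M := M) hV hxV w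
        letI := X.presheaf.algebra_section_stalk (⟨x, hxV⟩ : V)
        haveI := hV.isLocalization_stalk ⟨x, hxV⟩
        obtain ⟨⟨a, g₂⟩, ha⟩ := IsLocalization.surj (hV.primeIdealOf ⟨x, hxV⟩).asIdeal.primeCompl r
        have ha' : r * X.presheaf.germ V x hxV g₂.1 = X.presheaf.germ V x hxV a := ha
        have hap : a ∈ p := (mem_primeAt_iff hV hxV a).2 fun hxa => by
          have hu := (X.mem_basicOpen a x hxV).1 hxa
          rw [← ha'] at hu
          exact (mem_maximalIdeal _).1 hr (isUnit_of_mul_isUnit_left hu)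
        refine ⟨g₂.1 * g₁, fun hmem => ?_, a • m, Submodule.smul_mem_smul hap Submodule.mem_top, ?_⟩
        · haveI : p.IsPrime := (hV.primeIdealOf ⟨x, hxV⟩).2
          rcases Ideal.IsPrime.mem_or_mem ‹p.IsPrime› hmem with h | h
          · exact g₂.2 h
          · exact (mem_primeAt_iff hV hxV g₁).1 h hg₁
        · rw [QCohLoc.germ_smul', ← hm, map_mul, ← ha', ← mul_smul, ← mul_smul]
          congr 1
          ring
      · obtain ⟨g₁, hg₁, z₁, hz₁, e₁⟩ := ha
        obtain ⟨g₂, hg₂, z₂, hz₂, e₂⟩ := hb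
        haveI : p.IsPrime := (hV.primeIdealOf ⟨x, hxV⟩).2
        refine ⟨g₁ * g₂, fun hmem => (Ideal.IsPrime.mem_or_mem ‹p.IsPrime› hmem).elim hg₁ hg₂,
          g₂ • z₁ + g₁ • z₂, add_mem (Submodule.smul_mem _ _ hz₁) (Submodule.smul_mem _ _ hz₂), ?_⟩
        rw [map_add, QCohLoc.germ_smul', QCohLoc.germ_smul', ← e₁, ← e₂, smul_add, map_mul, ← mul_smul, ← mul_smul,
          mul_comm (X.presheaf.germ V x hxV g₂)]
    obtain ⟨g, hgp, z, hz, hgz⟩ := claim _ hn
    have hval : M.presheaf.germ V x hxV (SecTwist.val (RefPow.sPow s n) V) = RefPow.sPowGerm s n x := by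
      rw [← SecTwist.map_val (RefPow.sPow s n) (homOfLE (le_top : V ≤ ⊤))]
      exact TopCat.Presheaf.germ_res_apply M.presheaf _ x hxV _
    let v0 : Γ(M, V) := SecTwist.val (RefPow.sPow s n) V
    have h0 : M.presheaf.germ V x hxV (g • v0 - z) = 0 := by
      rw [map_sub, QCohLoc.germ_smul', hval, hgz, sub_self]
    obtain ⟨g', hg', hg0⟩ := QCohLoc.exists_smul_eq_zero_of_germ (M := M) hV hxV _ h0
    rw [smul_sub, sub_eq_zero, smul_smul] at hg0
    have hmem : rest U V (g' * g) ∈ Ideal.map (rest U V) p := by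
      have := legSec_mem U V s hF hU p n (g' • z) (Submodule.smul_mem _ _ hz)
      rwa [← hg0, legSec_smul, show legSec U V s hF hU n v0 = 1 from legSec_sPow U V s hF hU n, mul_one] at this
    have hgq : g' * g ∈ q.comap (rest U V) := Ideal.map_le_iff_le_comap.2 hxq.le hmem
    haveI : p.IsPrime := (hV.primeIdealOf ⟨x, hxV⟩).2
    rcases Ideal.IsPrime.mem_or_mem ‹p.IsPrime› (hxq.ge hgq) with h | h
    · exact (mem_primeAt_iff hV hxV g').1 h hg'
    · exact hgp h
  · rintro _ ⟨g, hg, rfl⟩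
    have e : X.basicOpen (rest U V g) = X.basicOpen g := by
      rw [rest, Scheme.basicOpen_res]
      refine inf_eq_right.2 fun y hy => ⟨⟨y, hg hy⟩, X.basicOpen_le g hy, rfl⟩
    rw [e]
    exact hV.basicOpen g

include hF hU in
theorem condition_of_affine (hX : Pi1.IsNormalScheme X) [IsAffineHom U.ι] (x : X) (hx : x ∉ U) :
    ∃ n : ℕ, 0 < n ∧ RefPow.sPowGerm s n x ∈ maximalIdeal (X.presheaf.stalk x) •
        (⊤ : Submodule (X.presheaf.stalk x) ((RefPow.refPow F n).presheaf.stalk x)) := by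
  classical
  by_cases hη : genericPoint X ∈ U
  swap
  · refine ⟨1, one_pos, ?_⟩
    rw [sPowGerm_succ, mulBy_eq_zero s hX hF (fun h => hη (by rw [← SetLike.mem_coe, hU]; exact h)) 0,
      RefPow.sPowGerm, RefHull.stalkMapₗ_germ]
    convert Submodule.zero_mem _
    exact map_zero _
  obtain ⟨_, ⟨V, hV, rfl⟩, hxV, -⟩ :=
    X.isBasis_affineOpens.exists_subset_of_mem_open (Set.mem_univ x) isOpen_univ
  let W := U.ι ''ᵁ U.ι ⁻¹ᵁ V
  have hW : IsAffineOpen W :=
    U.ι.isAffineOpen_iff_of_isOpenImmersion.2 ((isAffineHom_iff U.ι).1 inferInstance V hV)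
  have htop : Ideal.map (rest U V) (primeAt hV hxV) = ⊤ := by
    by_contra hne
    obtain ⟨q, hq, hqle⟩ := Ideal.exists_le_maximal _ hne
    haveI := hq.isPrime
    obtain ⟨z, hzW, hzq⟩ := exists_point hW q
    have hzV : z ∈ V := image_preimage_le U V hzW
    have hspec : x ⤳ z := (specializes_iff hV hxV hzV).2 fun g hg => by
      have h1 : rest U V g ∈ primeAt hW hzW := hzq.ge (hqle (Ideal.mem_map_of_mem _ hg))
      rw [mem_primeAt_iff, rest, Scheme.basicOpen_res] at h1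
      exact (mem_primeAt_iff hV hzV g).2 fun hzg => h1 ⟨hzW, hzg⟩
    exact hx (hspec.mem_open U.isOpen (image_preimage_le' U V hzW))
  have key : ∀ b ∈ Ideal.map (rest U V) (primeAt hV hxV), ∀ c, ∃ N, ∀ n, N ≤ n →
      ∃ t ∈ primeAt hV hxV • (⊤ : Submodule Γ(X, V) Γ(RefPow.refPow F n, V)),
        legSec U V s hF hU n t = c * b := by
    intro b hb
    refine Submodule.span_induction (fun b hb c => ?_) (fun c => ⟨0, fun n _ => ⟨0, zero_mem _, ?_⟩⟩)
      (fun a b _ _ ha hb c => ?_) (fun c' a _ ha c => ?_) hb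
    · obtain ⟨g, hg, rfl⟩ := hb
      obtain ⟨f, hf⟩ := secs_surjective U V c
      obtain ⟨N, hN⟩ := exists_lift s hF U hU hX hη hV f
      refine ⟨N, fun n hn => ?_⟩
      obtain ⟨t, ht⟩ := hN n hn
      refine ⟨g • t, Submodule.smul_mem_smul hg Submodule.mem_top, ?_⟩
      rw [legSec_smul, legSec, ht, hf, mul_comm]
    · rw [legSec, map_zero, mul_zero]; rfl
    · obtain ⟨N, hN⟩ := ha c
      obtain ⟨N', hN'⟩ := hb c
      refine ⟨max N N', fun n hn => ?_⟩
      obtain ⟨t, ht, e⟩ := hN n ((le_max_left _ _).trans hn)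
      obtain ⟨t', ht', e'⟩ := hN' n ((le_max_right _ _).trans hn)
      exact ⟨t + t', add_mem ht ht', by rw [legSec_add, e, e', mul_add]⟩
    · rw [smul_eq_mul, ← mul_assoc]
      exact ha (c * c')
  obtain ⟨N, hN⟩ := key 1 (htop ▸ Submodule.mem_top) 1
  rw [one_mul] at hN
  obtain ⟨t, ht, e⟩ := hN (N + 1) N.le_succ
  refine ⟨N + 1, N.succ_pos, ?_⟩
  have he : t = SecTwist.val (RefPow.sPow s (N + 1)) V :=
    leg_injective s hF U hU hη (N + 1) V (e.trans (legSec_sPow U V s hF hU (N + 1)).symm)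
  have hval : (RefPow.refPow F (N + 1)).presheaf.germ V x hxV (SecTwist.val (RefPow.sPow s (N + 1)) V) =
      RefPow.sPowGerm s (N + 1) x := by
    rw [← SecTwist.map_val (RefPow.sPow s (N + 1)) (homOfLE (le_top : V ≤ ⊤))]
    exact TopCat.Presheaf.germ_res_apply _ _ x hxV _
  rw [← hval, ← he]
  refine Submodule.smul_induction_on ht (fun r hr m _ => ?_) fun a b ha hb => ?_
  · rw [QCohLoc.germ_smul']
    exact Submodule.smul_mem_smul ((mem_maximalIdeal _).2 fun hu =>
      (mem_primeAt_iff hV hxV r).1 hr ((X.mem_basicOpen r x hxV).2 hu)) Submodule.mem_top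
  · rw [map_add]; exact add_mem ha hb

end Groth.Agent.RefPowLib
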