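import Groth.Agent.RefPowLib.Basic
import Groth.Agent.RefHullLib.DivFinite
import Groth.Agent.RefHullLib.DivSheaf
import Groth.Agent.ModStalk.Exact
import Mathlib

/-!
# The direct image of the structure sheaf of the iso locus as colimit of the reflexive powers
-/

set_option autoImplicit false
set_option backward.isDefEq.respectTransparency.types false
universe u

open CategoryTheory CategoryTheory.Limits AlgebraicGeometry IsLocalRing TopologicalSpace Opposite
open Groth.Agent.Coherent Groth.Agent.PicLib Groth.Agent.RefHullLib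

namespace Groth.Agent.RefPowLib

variable {X : Scheme.{u}} [IsIntegral X] [IsLocallyNoetherian X] {F : X.Modules}
  (s : Coh.structureModule X ⟶ F) (hF : RefHull.IsRef1 F) (U : X.Opens)
  (hU : (U : Set X) = RefPow.isoLocus s)

/-- `j_* O_U`. -/
noncomputable abbrev target : X.Modules :=
  (Scheme.Modules.pushforward U.ι).obj ((Coh.structureModule X).restrict U.ι)

/-- The restriction map `O_X → j_* O_U`. -/
noncomputable abbrev unitU : Coh.structureModule X ⟶ target U :=
  (Scheme.Modules.restrictAdjunction U.ι).unit.app (Coh.structureModule X)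

omit [IsIntegral X] [IsLocallyNoetherian X] in
theorem stalkMapₗ_comp {A B C : X.Modules} (φ : A ⟶ B) (ψ : B ⟶ C) (y : X) (v : A.presheaf.stalk y) :
    RefHull.stalkMapₗ (φ ≫ ψ) y v = RefHull.stalkMapₗ ψ y (RefHull.stalkMapₗ φ y v) := by
  obtain ⟨W, hW, t, rfl⟩ := A.presheaf.exists_germ_eq v
  rw [RefHull.stalkMapₗ_germ, RefHull.stalkMapₗ_germ, RefHull.stalkMapₗ_germ]
  rfl

omit [IsIntegral X] [IsLocallyNoetherian X] in
theorem bijective_stalk_unitU {y : X} (hy : y ∈ U) : Function.Bijective (RefHull.stalkMapₗ (unitU U) y) :=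
  Coherent.bijective_stalk_restrictUnit (Coh.structureModule X) hy

include hU in
omit [IsIntegral X] [IsLocallyNoetherian X] in
theorem mem_isoLocus_of_mem {y : X} (hy : y ∈ U) : y ∈ RefPow.isoLocus s := hU ▸ hy

include hF hU in
theorem bijective_stalk_sPow (n : ℕ) {y : X} (hy : y ∈ U) :
    Function.Bijective (RefHull.stalkMapₗ (RefPow.sPow s n) y) :=
  (bijective_stalk_sPow_iff s n y).2 (bijective_smul_sPowGerm s hF (mem_isoLocus_of_mem s U hU hy) n)

include hF hU in
theorem isIso_restrict_sPow (n : ℕ) :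
    IsIso ((Scheme.Modules.restrictFunctor U.ι).map (RefPow.sPow s n)) :=
  isIso_restrict_map _ U fun _ hy => bijective_stalk_sPow s hF U hU n hy

/-- The comparison map `F^[n] → j_* O_U`. -/
noncomputable def leg (n : ℕ) : RefPow.refPow F n ⟶ target U :=
  haveI := isIso_restrict_sPow s hF U hU n
  (Scheme.Modules.restrictAdjunction U.ι).unit.app (RefPow.refPow F n) ≫
    (Scheme.Modules.pushforward U.ι).map (inv ((Scheme.Modules.restrictFunctor U.ι).map (RefPow.sPow s n)))

theorem leg_zero : leg s hF U hU 0 = unitU U := by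
  haveI := isIso_restrict_sPow s hF U hU 0
  have h : inv ((Scheme.Modules.restrictFunctor U.ι).map (RefPow.sPow s 0)) =
      𝟙 ((Scheme.Modules.restrictFunctor U.ι).obj (Coh.structureModule X)) :=
    IsIso.inv_eq_of_hom_inv_id ((Category.comp_id _).trans (CategoryTheory.Functor.map_id _ _))
  exact (congrArg (fun q => (Scheme.Modules.restrictAdjunction U.ι).unit.app (Coh.structureModule X) ≫
      (Scheme.Modules.pushforward U.ι).map q) h).trans
    ((congrArg (_ ≫ ·) (CategoryTheory.Functor.map_id _ _)).trans (Category.comp_id _))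

theorem mulBy_leg (n : ℕ) : RefPow.mulBy s n ≫ leg s hF U hU (n + 1) = leg s hF U hU n := by
  haveI := isIso_restrict_sPow s hF U hU n
  haveI := isIso_restrict_sPow s hF U hU (n + 1)
  let ad := Scheme.Modules.restrictAdjunction U.ι
  have e1 : (Scheme.Modules.restrictFunctor U.ι).map (RefPow.mulBy s n) ≫
      inv ((Scheme.Modules.restrictFunctor U.ι).map (RefPow.sPow s (n + 1))) =
      inv ((Scheme.Modules.restrictFunctor U.ι).map (RefPow.sPow s n)) := by
    rw [IsIso.comp_inv_eq, IsIso.eq_inv_comp]
    exact ((Scheme.Modules.restrictFunctor U.ι).map_comp _ _).symm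
  show RefPow.mulBy s n ≫ ad.unit.app _ ≫ _ = _
  rw [← Category.assoc]
  erw [ad.unit.naturality (RefPow.mulBy s n)]
  rw [Category.assoc]
  erw [← (Scheme.Modules.pushforward U.ι).map_comp, e1]
  rfl

theorem sPow_leg : ∀ n, RefPow.sPow s n ≫ leg s hF U hU n = unitU U
  | 0 => by rw [RefPow.sPow_zero, leg_zero]; exact Category.id_comp _
  | n + 1 => by rw [RefPow.sPow_succ, Category.assoc, mulBy_leg, sPow_leg n]

theorem leg_sPowGerm (n : ℕ) (y : X) :
    RefHull.stalkMapₗ (leg s hF U hU n) y (RefPow.sPowGerm s n y) =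
      RefHull.stalkMapₗ (unitU U) y (AssSch12.unitOne y) := by
  rw [sPowGerm_eq_stalkMap, ← stalkMapₗ_comp, sPow_leg]

theorem bijective_stalk_leg (n : ℕ) {y : X} (hy : y ∈ U) :
    Function.Bijective (RefHull.stalkMapₗ (leg s hF U hU n) y) := by
  have h := bijective_stalk_unitU U hy
  rw [← sPow_leg s hF U hU n] at h
  have e : ⇑(RefHull.stalkMapₗ (RefPow.sPow s n ≫ leg s hF U hU n) y) =
      RefHull.stalkMapₗ (leg s hF U hU n) y ∘ RefHull.stalkMapₗ (RefPow.sPow s n) y :=
    funext fun v => stalkMapₗ_comp _ _ y v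
  rw [e] at h
  exact (Function.Bijective.of_comp_iff _ (bijective_stalk_sPow s hF U hU n hy)).1 h

include hF in
theorem toGen_injective_target {y : X} (hy : y ∈ U) : Function.Injective (toGen (target U) y) := by
  intro a b e
  have hη : genericPoint X ∈ U := genericPoint_mem_of_mem hy
  obtain ⟨a, rfl⟩ := (bijective_stalk_unitU U hy).2 a
  obtain ⟨b, rfl⟩ := (bijective_stalk_unitU U hy).2 b
  rw [toGen_stalkMap, toGen_stalkMap] at e
  exact congrArg _ (toGen_injective (Coh.structureModule X) (QCohLoc.isQCoh_structureModule X) y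
    (isTorsionFree_refPow hF 0 y) ((bijective_stalk_unitU U hη).1 e))

include hF in
/-- Sections of `j_* O_U` are determined at the generic point. -/
theorem target_ext (V : X.Opens) (hη : genericPoint X ∈ V) (a b : Γ(target U, V))
    (h : (target U).presheaf.germ V (genericPoint X) hη a = (target U).presheaf.germ V (genericPoint X) hη b) :
    a = b := by
  apply resM_push_injective (Coh.structureModule X) U V
  refine TopCat.Presheaf.section_ext ⟨(target U).presheaf, (target U).isSheaf⟩ (V ⊓ U) _ _ fun y hy => ?_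
  apply toGen_injective_target hF U hy.2
  show toGen (target U) y ((target U).presheaf.germ (V ⊓ U) y hy _) =
    toGen (target U) y ((target U).presheaf.germ (V ⊓ U) y hy _)
  rw [toGen_germ, toGen_germ]
  exact ((TopCat.Presheaf.germ_res_apply _ _ _ _ a).trans h).trans
    (TopCat.Presheaf.germ_res_apply _ _ _ _ b).symm

omit [IsIntegral X] [IsLocallyNoetherian X] in
theorem target_subsingleton (hUe : ∀ y, y ∉ U) (V : X.Opens) (a : Γ(target U, V)) : a = 0 := by
  apply resM_push_injective (Coh.structureModule X) U V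
  exact TopCat.Presheaf.section_ext ⟨(target U).presheaf, (target U).isSheaf⟩ (V ⊓ U) _ _
    fun y hy => absurd hy.2 (hUe y)

theorem leg_injective (hη : genericPoint X ∈ U) (n : ℕ) (V : X.Opens) :
    Function.Injective ((leg s hF U hU n).app V) := by
  intro a b e
  refine section_ext_of_germ_genericPoint (RefPow.refPow F n) (isRef1_refPow hF n).1.1
    (fun x _ => isTorsionFree_refPow hF n x) a b fun hV => ?_
  apply (bijective_stalk_leg s hF U hU n hη).1
  rw [RefHull.stalkMapₗ_germ, RefHull.stalkMapₗ_germ, e]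

/-- Sections of `j_* O_U` over an affine open come from all sufficiently high reflexive powers. -/
theorem exists_lift (hX : Pi1.IsNormalScheme X) (hη : genericPoint X ∈ U) {V : X.Opens} (hV : IsAffineOpen V)
    (f : Γ(target U, V)) :
    ∃ N, ∀ n, N ≤ n → ∃ t : Γ(RefPow.refPow F n, V), (leg s hF U hU n).app V t = f := by
  classical
  by_cases hVne : genericPoint X ∈ V
  swap
  · refine ⟨0, fun n _ => ⟨0, ?_⟩⟩
    exact TopCat.Presheaf.section_ext ⟨(target U).presheaf, (target U).isSheaf⟩ V _ _
      fun y hy => absurd (genericPoint_mem_of_mem hy) hVne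
  obtain ⟨o, ho⟩ := (bijective_stalk_unitU U hη).2 ((target U).presheaf.germ V (genericPoint X) hVne f)
  obtain ⟨α, hα⟩ := (AssSch12.bijective_smul_unitOne (genericPoint X)).2 o
  dsimp only at hα
  subst hα
  have hbad := finite_coheight_one_notMem hη hV
  have hk : ∀ y : X, ∃ k : ℕ, y ∈ V → Order.coheight y = 1 → ∃ c d : X.presheaf.stalk y,
      maximalIdeal (X.presheaf.stalk y) ^ k ≤ Ideal.span {c} ∧
        toGenRing y d = α * toGenRing y c := by
    intro y
    by_cases hy : y ∈ V ∧ Order.coheight y = 1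
    swap
    · exact ⟨0, fun h1 h2 => absurd ⟨h1, h2⟩ hy⟩
    haveI : Ring.KrullDimLE 1 (X.presheaf.stalk y) := krullDimLE_of_coheight_le hy.2.le
    obtain ⟨d, c, hc, he⟩ := IsFractionRing.div_surjective (X.presheaf.stalk y) (α : X.functionField)
    have hc0 : c ≠ 0 := nonZeroDivisors.ne_zero hc
    have hrad : maximalIdeal (X.presheaf.stalk y) ≤ (Ideal.span {c}).radical := by
      rw [Ideal.radical_eq_sInf]
      refine le_sInf ?_
      rintro P ⟨hP, hPp⟩
      have hne : P ≠ ⊥ := fun e => hc0 (by simpa [e] using hP (Ideal.mem_span_singleton_self c))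
      have hmax : P.IsMaximal := Ring.krullDimLE_one_iff_of_noZeroDivisors.1 inferInstance P hne hPp
      exact (IsLocalRing.eq_maximalIdeal hmax).ge
    obtain ⟨k, hk⟩ := Ideal.exists_pow_le_of_le_radical_of_fg hrad (IsNoetherian.noetherian _)
    refine ⟨k, fun _ _ => ⟨c, d, hk, ?_⟩⟩
    exact (div_eq_iff (IsFractionRing.to_map_ne_zero_of_mem_nonZeroDivisors
      (K := X.functionField) hc)).1 he
  choose k hk using hk
  refine ⟨hbad.toFinset.sup k, fun n hn => ?_⟩
  let v := α • RefPow.sPowGerm s n (genericPoint X)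
  have hlegv : RefHull.stalkMapₗ (leg s hF U hU n) (genericPoint X) v =
      (target U).presheaf.germ V (genericPoint X) hVne f := by
    rw [map_smul, leg_sPowGerm, ← map_smul, ho]
  obtain ⟨t, ht⟩ := exists_section_of_codimOne hX (isRef1_refPow hF n).1 (isReflexiveAt_refPow hF n) hVne v
    fun y hy hd => by
    have hy1 := (ringKrullDim_eq_one_iff_coheight y).1 hd
    by_cases hyU : y ∈ U
    · obtain ⟨w, hw⟩ := (bijective_stalk_leg s hF U hU n hyU).2 ((target U).presheaf.germ V y hy f)
      refine ⟨w, (bijective_stalk_leg s hF U hU n hη).1 ?_⟩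
      rw [← toGen_stalkMap, hw, toGen_germ, hlegv]
    · obtain ⟨c, d, hcd, hd'⟩ := hk y hy hy1
      have hle : k y ≤ n := (Finset.le_sup (f := k) (hbad.mem_toFinset.2 ⟨hy, hy1, hyU⟩)).trans hn
      have hmem : RefPow.sPowGerm s n y ∈ Ideal.span {c} •
          (⊤ : Submodule (X.presheaf.stalk y) ((RefPow.refPow F n).presheaf.stalk y)) :=
        Submodule.smul_mono ((Ideal.pow_le_pow_right hle).trans hcd) le_rfl
          (sPowGerm_mem_pow s (exists_eq_smul_of_notMem s hX hF
            (fun h => hyU (by rw [← SetLike.mem_coe, hU]; exact h)) hd.le) n)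
      rw [Submodule.ideal_span_singleton_smul] at hmem
      obtain ⟨z, -, hz⟩ := (Submodule.mem_smul_pointwise_iff_exists _ _ _).1 hmem
      refine ⟨d • z, ?_⟩
      have e := congrArg (toGen (RefPow.refPow F n) y) hz
      rw [toGen_smul] at e
      have e2 : toGen (RefPow.refPow F n) y (RefPow.sPowGerm s n y) = RefPow.sPowGerm s n (genericPoint X) :=
        toGen_germ (RefPow.refPow F n) (U := ⊤) trivial _
      rw [toGen_smul, hd', mul_smul, e, e2]
  refine ⟨t, target_ext hF U V hVne _ _ ?_⟩
  rw [← RefHull.stalkMapₗ_germ, ht, hlegv]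

/-- The cocone. -/
noncomputable def cocone : Cocone (RefPow.diagram F s) :=
  Cocone.mk (target U) (NatTrans.ofSequence (fun n => leg s hF U hU n) fun n => by
    exact (congrArg (· ≫ leg s hF U hU (n + 1)) (RefPow.diagram_map F s n)).trans
      ((mulBy_leg s hF U hU n).trans (Category.comp_id _).symm))

theorem nonempty_isColimit (hX : Pi1.IsNormalScheme X) : Nonempty (IsColimit (cocone s hF U hU)) := by
  let D := RefPow.diagram F s
  let φ := colimit.desc D (cocone s hF U hU)
  suffices IsIso φ from ⟨IsColimit.ofIsoColimit (colimit.isColimit D)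
    (Cocone.ext (asIso φ) fun n => colimit.ι_desc _ n)⟩
  refine ModStalk.isIso_of_stalks _ fun x => ?_
  rw [ConcreteCategory.isIso_iff_bijective]
  let S := DerSch.stalkFunctor X x
  have hc := isColimitOfPreserves S (colimit.isColimit D)
  have hι : ∀ (n : ℕ) (v : (RefPow.refPow F n).presheaf.stalk x),
      S.map φ (S.map (colimit.ι D n) v) = RefHull.stalkMapₗ (leg s hF U hU n) x v := fun n v => by
    show RefHull.stalkMapₗ φ x (RefHull.stalkMapₗ (colimit.ι D n) x v) = _
    rw [← stalkMapₗ_comp]
    exact congrArg (fun ψ => RefHull.stalkMapₗ ψ x v) (colimit.ι_desc _ n)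
  haveI : PreservesFilteredColimitsOfSize.{0, 0} (forget (ModuleCat.{u} (X.presheaf.stalk x))) :=
    preservesFilteredColimitsOfSize_shrink _
  refine ⟨(injective_iff_map_eq_zero (S.map φ).hom).2 fun a ha => ?_, fun w => ?_⟩
  · obtain ⟨n, v, rfl⟩ := Concrete.isColimit_exists_rep _ hc a
    change S.map φ (S.map (colimit.ι D n) v) = 0 at ha
    show S.map (colimit.ι D n) v = 0
    rw [hι] at ha
    by_cases hη : genericPoint X ∈ U
    · suffices v = 0 by rw [this]; exact map_zero _
      apply toGen_injective (RefPow.refPow F n) (isRef1_refPow hF n).1.1 x (isTorsionFree_refPow hF n x)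
      apply (bijective_stalk_leg s hF U hU n hη).1
      refine ((toGen_stalkMap _ _ x v).symm.trans ((congrArg (toGen (target U) x) ha).trans
        ((map_zero _).trans ?_)))
      exact ((congrArg _ (map_zero _)).trans (map_zero _)).symm
    · have h0 : D.map (homOfLE n.le_succ) = 0 := by
        rw [RefPow.diagram_map]
        exact mulBy_eq_zero s hX hF (fun h => hη (by rw [← SetLike.mem_coe, hU]; exact h)) n
      rw [← colimit.w D (homOfLE n.le_succ), h0, zero_comp]
      show RefHull.stalkMapₗ (0 : RefPow.refPow F n ⟶ colimit D) x v = 0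
      obtain ⟨W, hW, t, rfl⟩ := (RefPow.refPow F n).presheaf.exists_germ_eq v
      rw [RefHull.stalkMapₗ_germ]
      exact map_zero _
  · obtain ⟨W, hxW, f, rfl⟩ := (target U).presheaf.exists_germ_eq w
    obtain ⟨_, ⟨V, hV, rfl⟩, hxV, hVW⟩ := X.isBasis_affineOpens.exists_subset_of_mem_open hxW W.isOpen
    rw [← TopCat.Presheaf.germ_res_apply (target U).presheaf (homOfLE hVW) x hxV f]
    by_cases hη : genericPoint X ∈ U
    · obtain ⟨N, hN⟩ := exists_lift s hF U hU hX hη hV ((target U).presheaf.map (homOfLE hVW).op f)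
      obtain ⟨t, ht⟩ := hN N le_rfl
      refine ⟨S.map (colimit.ι D N) ((RefPow.refPow F N).presheaf.germ V x hxV t), ?_⟩
      rw [hι, RefHull.stalkMapₗ_germ, ht]
      rfl
    · refine ⟨0, ?_⟩
      refine (map_zero (S.map φ).hom).trans (Eq.symm ?_)
      exact (congrArg ((target U).presheaf.germ V x hxV) (target_subsingleton U
        (fun y hy => hη (genericPoint_mem_of_mem hy)) V _)).trans (map_zero _)

end Groth.Agent.RefPowLib
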